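import Groth.Agent.ResProp.EF.F5.Iface
import Groth.Agent.ResProp.EF.K476.Mum

/-!
# G6c: the REP datum (helper654)

`RepDatum X` over an abstract chart `X : K294.Chart A C` (`C` = comodules over the groupoid): a bounded complex
`K` of objects of `C`, flat on the chart, and a filtered system `Ψ : J ⥤ CochainComplex C ℤ` of complexes, in degrees `≥ a`
(one `a` for all; NOT bounded above), flat on the chart, with finite cohomology on the chart and
`H^n(us Ψ_i ⊗ N) = 0` for `n > b` and all modules `N` (one `b` for all), a colimit cocone `c` of `Ψ` and a chain map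
`e : c.pt ⟶ K` such that `us e ⊗ N` is a quasi-isomorphism for all modules `N`.
(`K` = the flat model of the complex of bicomodules, `Ψ_i = C(E, F_i ⊗ K)` the Hochschild complexes with values in
`F_i ⊗ K`, `F_i` the finite free subcomodules of `O(E)`, `c.pt = C(E, O(E) ⊗ K)`, `e` = projection to cobar degree `0`
followed by the counit.)
-/

set_option autoImplicit false

universe t w v u

open CategoryTheory CategoryTheory.Limits HomologicalComplex

namespace Groth.Agent.ResProp.EF.K654

open Groth.Agent.ResProp.EF.K294

variable {A : Type u} [CommRing A] {C : Type v} [Category.{w} C] [Abelian C]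

/-- the REP datum -/
structure RepDatum (X : Chart A C) where
  /-- the flat model of `Kc` -/
  K : CochainComplex C ℤ
  /-- lower bound for everything -/
  a : ℤ
  /-- upper bound for the Tor-amplitude of the `Ψ_i` -/
  b : ℤ
  geK : K.IsStrictlyGE a
  leK : ∃ n : ℤ, K.IsStrictlyLE n
  flatK : ∀ n : ℤ, Module.Flat A (X.us.obj (K.X n))
  /-- index category -/
  J : Type t
  [catJ : SmallCategory J]
  [filt : IsFiltered J]
  Ψ : J ⥤ CochainComplex C ℤ
  ge : ∀ i : J, (Ψ.obj i).IsStrictlyGE a
  flat : ∀ (i : J) (n : ℤ), Module.Flat A (X.us.obj ((Ψ.obj i).X n))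
  fin : ∀ (i : J) (n : ℤ), Module.Finite A ((X.usC.obj (Ψ.obj i)).homology n)
  van : ∀ (i : J) (N : ModuleCat.{u} A) (n : ℤ), b < n → IsZero ((K476.Mum.tens (X.usC.obj (Ψ.obj i)) N).homology n)
  c : Cocone Ψ
  isColimit : IsColimit c
  e : c.pt ⟶ K
  univ : ∀ N : ModuleCat.{u} A, QuasiIso (K476.Mum.tensMap (X.usC.map e) N)

attribute [instance] RepDatum.catJ RepDatum.filt

end Groth.Agent.ResProp.EF.K654
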