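import Groth.Agent.ResProp.EF.K654.Main2
import Groth.Agent.ResProp.EF.K119.LemTChart

/-!
# G6c: the abstract theorem (S16912, helper654)

`exists_repOut`: from a bounded complex `K` of `E`-equivariant objects over the chart (small finite terms, Tor-amplitude
`≥ a`) the flat model `K ⟵ W ⟶ F` and the REP datum with `RD.K = u F`.
-/

set_option autoImplicit false

universe w₁ v₁ w₂ v₂ w v u

open CategoryTheory CategoryTheory.Limits HomologicalComplex₂ ComplexShape MonoidalCategory TensorProduct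

namespace Groth.Agent.ResProp.EF.K654

open Groth.Agent.ResProp.EF.K294 K967 K118.TotCob

variable {R : Type u} [CommRing R] [IsNoetherianRing R]
  -- the category of `Γ`-comodules and its chart
  {C : Type v} [Category.{w} C] [Abelian C] (X : Chart R C)
  [∀ K : HomologicalComplex₂ C (up ℤ) (up ℤ), K.HasTotal (up ℤ)]
  -- the category of `(Γ, E)`-comodules and its chart
  {D : Type v₁} [Category.{w₁} D] [Abelian D] (XE : Chart R D)
  (u : D ⥤ C) [u.Additive]
  -- the functors `Cob(M ⊗ F_j)`, `Cob(M ⊗ O)`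
  (J : Type u) [SmallCategory J] [IsFiltered J] [HasColimitsOfShape J C]
  (T : J ⥤ D ⥤ CochainComplex C ℤ) [∀ j, (T.obj j).Additive]
  (To : D ⥤ CochainComplex C ℤ) [To.Additive] (l : T ⟶ (Functor.const J).obj To)
  (p : K858.Aug To u)
  -- the category of `E`-comodules over the chart
  {P : Type u} [CommRing P] [Algebra R P] [IsNoetherianRing P]
  {H : Type u} [CommRing H] [HopfAlgebra R H] [Module.Flat R H]
  {E : Type u} [CommRing E] [Algebra R E] {π' : P →ₐ[R] E} {cE : K83.CoAlg R H E} {r : ℕ}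
  {ME : Type w₂} [Category.{v₂} ME] [Abelian ME] {U : ME ⥤ ModuleCat.{u} R} [U.Additive]
  [PreservesFiniteLimits U] [PreservesFiniteColimits U] [PreservesColimitsOfSize.{0, 0} U]
  {G : CoFun H U} {tn : ME ⥤ ModuleCat.{u} R ⥤ ME}
  [tn.Additive] [∀ M, (tn.obj M).Additive] [HasCoproducts.{0} ME]
  [HasColimitsOfShape ℕ ME] [HasExactColimitsOfShape ℕ ME]
  [∀ M : ME, PreservesColimitsOfShape ℕ (tn.obj M)]
  [∀ M : ModuleCat.{u} R, PreservesColimitsOfShape ℕ (tn.flip.obj M)]
  -- evaluation on the chart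
  (uE : D ⥤ ME) [uE.Additive] [uE.PreservesHomology]
  (Θ : J → ME ⥤ CochainComplex (ModuleCat.{u} R) ℤ) [∀ j, (Θ j).Additive] [∀ j, PreservesFiniteLimits (Θ j)]
  [∀ j, PreservesFiniteColimits (Θ j)]
  (F₀ : J → Type u) [∀ j, AddCommGroup (F₀ j)] [∀ j, Module R (F₀ j)] [∀ j, Module.Finite R (F₀ j)]
  (d : ∀ j, HopfRep.Comod R H (F₀ j))

/-- the output: the flat model and the REP datum -/
structure RepOut (K : CochainComplex D ℤ) (a b : ℤ) where
  W : CochainComplex D ℤ
  F : CochainComplex D ℤ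
  s : W ⟶ K
  t : W ⟶ F
  qs : QuasiIso s
  qt : QuasiIso t
  geW : W.IsStrictlyGE a
  leW : W.IsStrictlyLE b
  geF : F.IsStrictlyGE a
  leF : F.IsStrictlyLE b
  flatF : ∀ i, Module.Flat R (XE.us.obj (F.X i))
  rd : RepDatum.{u} X
  rd_K : rd.K = (u.mapHomologicalComplex (up ℤ)).obj F

/-- **the abstract theorem of G6c** -/
theorem exists_repOut
    (hu : ∀ M, Module.Flat R (XE.us.obj M) → Module.Flat R (X.us.obj (u.obj M)))
    (hneg : ∀ (j : J) (M : D) (n : ℤ), n < 0 → IsZero (((T.obj j).obj M).X n))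
    (hflat : ∀ (j : J) (M : D), Module.Flat R (X.us.obj (u.obj M)) →
      ∀ n : ℤ, Module.Flat R (X.us.obj (((T.obj j).obj M).X n)))
    (hc : ∀ (M : D) (n : ℤ), Nonempty (IsColimit ((((evaluation D (CochainComplex C ℤ)).obj M) ⋙
      HomologicalComplex.eval C (up ℤ) n).mapCocone (K309.fCocone T To l))))
    (hq : ∀ M : D, QuasiIso (p.toSgl.app M))
    (hE : ∀ M, Module.Flat R (XE.us.obj M) → Module.Flat R (U.obj (uE.obj M)))
    (S : TensFun G tn)
    (ex₁ : ∀ V : ME, Module.Flat R (U.obj V) → (tn.obj V).PreservesHomology)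
    (ex₂ : ∀ N : ModuleCat.{u} R, Module.Flat R N → (tn.flip.obj N).PreservesHomology)
    (hΘneg : ∀ (j : J) (V : ME) (n : ℤ), n < 0 → IsZero (((Θ j).obj V).X n))
    (hΘ : ∀ j, ThetaH G (Θ j) (d j))
    (β : ∀ j, Nonempty (T.obj j ⋙ X.usC ≅ uE ⋙ Θ j))
    (γ : ∀ j (N : ModuleCat.{u} R),
      Nonempty (Θ j ⋙ (tensorRight N).mapHomologicalComplex (up ℤ) ≅ tn.flip.obj N ⋙ Θ j))
    (hπ : Function.Surjective π') (hfin : K83.FinOut R H E cE r)
    (K : CochainComplex D ℤ) (a b : ℤ) (hab' : a ≤ b) [K.IsStrictlyGE a] [K.IsStrictlyLE b] (hT : TorGE a (XE.usC.obj K))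
    [∀ i, Module P (U.obj ((mc uE K).X i))] [∀ i, IsScalarTower R P (U.obj ((mc uE K).X i))]
    (hd : ∀ i j, PLin P (U.map ((mc uE K).d i j)))
    (hs : ∀ i, K981.Small (P := P) π' cE.ρ (G.co ((mc uE K).X i)))
    (hK : ∀ i, Module.Finite P (U.obj ((mc uE K).X i))) :
    Nonempty (RepOut X XE u K a b) := by
  obtain ⟨W, F, s, t, qs, qt, geW, leW, geF, leF, flatF⟩ := XE.exists_roof K a b a b hab' le_rfl hT
    (fun i hi => HomologicalComplex.ExactAt.of_isZero (K.isZero_of_isStrictlyLE b i hi))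
  have qs' : QuasiIso ((uE.mapHomologicalComplex (up ℤ)).map s) := inferInstance
  have qt' : QuasiIso ((uE.mapHomologicalComplex (up ℤ)).map t) := inferInstance
  have hab : ∀ i, (i < a ∨ b < i) → Subsingleton (U.obj ((mc uE K).X i)) := by
    intro i hi
    have hz : IsZero (K.X i) := hi.elim (fun h => K.isZero_of_isStrictlyGE a i h)
      (fun h => K.isZero_of_isStrictlyLE b i h)
    exact ModuleCat.subsingleton_of_isZero (U.map_isZero (uE.map_isZero hz))
  have tot : ∀ j, HomologicalComplex₂.HasTotal (K380.DCF.dc (T.obj j) F) (up ℤ) := fun j => inferInstance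
  refine ⟨{ W := W, F := F, s := s, t := t, qs := qs, qt := qt, geW := geW, leW := leW, geF := geF, leF := leF,
            flatF := flatF
            rd := repDatum X J T To l u p F a b (b + r) hneg hflat (fun M n => (hc M n).some) hq
              (fun i => hu _ (flatF i)) (fun j n => ?_) (fun j N n hn => ?_)
            rd_K := rfl }⟩
  · exact serre_of X (T.obj j) uE (Θ j) (hΘneg j) (hneg j) (β j).some F a (K380.DCF.fg R) n fun i m _ =>
      fin_chart (P := P) hπ hfin (mc uE K) (mc uE W) (mc uE F) hd hs hK ((uE.mapHomologicalComplex (up ℤ)).map s)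
        ((uE.mapHomologicalComplex (up ℤ)).map t) (Θ j) (d j) (hΘ j) (hΘneg j) i m
  · exact van_of X (T.obj j) uE (Θ j) (hΘneg j) (hneg j) (β j).some F a b N (tn.flip.obj N) (γ j N).some r n
      hn fun i m hm => van_chart (P := P) hπ hfin S ex₁ ex₂ (mc uE K) (mc uE W) (mc uE F) hd a b hab hs b
        (fun i => hE _ (flatF i)) ((uE.mapHomologicalComplex (up ℤ)).map s)
        ((uE.mapHomologicalComplex (up ℤ)).map t) N (Θ j) (d j) (hΘ j) i m hm

end Groth.Agent.ResProp.EF.K654
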