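import Groth.Agent.ResProp.EF.K654.Main4
import Groth.Agent.ResProp.EF.K742.CoalgChart
import Groth.Agent.ResProp.EF.K118.Lift
import Groth.Agent.ResProp.EF.K858.CFTw
import Groth.Agent.ResProp.EF.K309.CobColim

/-!
# G6c: the theorem for `D = G.Coalgebra` (S16912, helper654)

`G` a comonad with unit on `C` (`- ⊗_k O`), `W_j`, `Wo` the twists (`- ⊗ F_j`, `- ⊗ O`), `σ : Wo ≅ forget ⋙ cofree` the
shear, `Φ : CHom U (UO R H) X.us` the comparison of `G` with `- ⊗[R] H` on the chart, `θ_j : W_j ⋙ Φ.lift ≅ Φ.lift ⋙ twR d_j`.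
-/

set_option autoImplicit false

universe w v u

open CategoryTheory CategoryTheory.Limits HomologicalComplex₂ ComplexShape MonoidalCategory TensorProduct

namespace Groth.Agent.ResProp.EF.K654

open Groth.Agent.ResProp.EF.K294 K967 K118.TotCob K496 K679.TwR K668

variable {R : Type u} [CommRing R] [IsNoetherianRing R]
  {C : Type v} [Category.{w} C] [Abelian C] (X : Chart R C)
  [∀ K : HomologicalComplex₂ C (up ℤ) (up ℤ), K.HasTotal (up ℤ)]
  {G : Comonad C} (U : CUnit G) [G.toFunctor.Additive] [PreservesFiniteLimits G.toFunctor]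
  [PreservesFiniteColimits G.toFunctor]
  (J : Type u) [SmallCategory J] [IsFiltered J] [HasColimitsOfShape J C] [PreservesColimitsOfShape J G.toFunctor]
  (W : J ⥤ G.Coalgebra ⥤ G.Coalgebra) [∀ j, (W.obj j).Additive] (Wo : G.Coalgebra ⥤ G.Coalgebra) [Wo.Additive]
  (l : W ⟶ (Functor.const J).obj Wo)
  {P : Type u} [CommRing P] [Algebra R P] [IsNoetherianRing P]
  {H : Type u} [CommRing H] [HopfAlgebra R H] [Module.Flat R H]
  {E : Type u} [CommRing E] [Algebra R E] {π' : P →ₐ[R] E} {cE : K83.CoAlg R H E} {r : ℕ}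
  (F₀ : J → Type u) [∀ j, AddCommGroup (F₀ j)] [∀ j, Module R (F₀ j)] [∀ j, Module.Finite R (F₀ j)]
  [∀ j, Module.Flat R (F₀ j)] (d : ∀ j, HopfRep.Comod R H (F₀ j))

omit [IsNoetherianRing R] [∀ K : HomologicalComplex₂ C (up ℤ) (up ℤ), K.HasTotal (up ℤ)]
  [PreservesFiniteLimits G.toFunctor] [PreservesFiniteColimits G.toFunctor] in
/-- flatness of the terms of the cobar complex -/
theorem flat_Cob (hG : ∀ N : C, Module.Flat R (X.us.obj N) → Module.Flat R (X.us.obj (G.obj N)))
    (M : G.Coalgebra) (hM : Module.Flat R (X.us.obj M.A)) (n : ℤ) :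
    Module.Flat R (X.us.obj ((U.Cob.obj M).X n)) := by
  rcases lt_or_ge n 0 with hn | hn
  · have h1 := ModuleCat.subsingleton_of_isZero (X.us.map_isZero (U.isZero_Cob M n hn))
    infer_instance
  · obtain ⟨m, rfl⟩ : ∃ m : ℕ, n = m := ⟨n.toNat, by omega⟩
    change Module.Flat R (X.us.obj (pw G M.A m))
    induction m with
    | zero => exact hM
    | succ m ih => exact hG _ (ih (by omega))

/-- **G6c for coalgebras** -/
theorem exists_repOut_coalg
    (hPT : K742.PresTor X G)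
    (hG : ∀ N : C, Module.Flat R (X.us.obj N) → Module.Flat R (X.us.obj (G.obj N)))
    (hW : ∀ (j : J) (M : G.Coalgebra), Module.Flat R (X.us.obj M.A) → Module.Flat R (X.us.obj ((W.obj j).obj M).A))
    (hl : ∀ M : G.Coalgebra,
      Nonempty (IsColimit (((evaluation G.Coalgebra G.Coalgebra).obj M).mapCocone (Cocone.mk Wo l))))
    (σ : Wo ≅ G.forget ⋙ G.cofree)
    (Φ : CHom U (UO R H) X.us)
    (θ : ∀ j, Nonempty (W.obj j ⋙ Φ.lift ≅ Φ.lift ⋙ twR (d j)))
    (hπ : Function.Surjective π') (hfin : K83.FinOut R H E cE r)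
    (K : CochainComplex G.Coalgebra ℤ) (a b : ℤ) (hab' : a ≤ b) [K.IsStrictlyGE a] [K.IsStrictlyLE b]
    (hT : TorGE a ((K742.coalgChart X G hPT).usC.obj K))
    [∀ i, Module P ((GO R H).forget.obj (((Φ.lift.mapHomologicalComplex (up ℤ)).obj K).X i))]
    [∀ i, IsScalarTower R P ((GO R H).forget.obj (((Φ.lift.mapHomologicalComplex (up ℤ)).obj K).X i))]
    (hd : ∀ i j, PLin P ((GO R H).forget.map (((Φ.lift.mapHomologicalComplex (up ℤ)).obj K).d i j)))
    (hs : ∀ i, K981.Small (P := P) π' cE.ρ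
      ((coFun R H).co (((Φ.lift.mapHomologicalComplex (up ℤ)).obj K).X i)))
    (hK : ∀ i, Module.Finite P ((GO R H).forget.obj (((Φ.lift.mapHomologicalComplex (up ℤ)).obj K).X i))) :
    Nonempty (RepOut X (K742.coalgChart X G hPT) G.forget K a b) := by
  have := X.exact_us
  have hus : PreservesFiniteColimits X.us := by
    have := X.adj.leftAdjoint_preservesColimits.{0, 0}
    infer_instance
  have hlim : PreservesFiniteLimits Φ.lift := inferInstance
  have hcolim : PreservesFiniteColimits Φ.lift := inferInstance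
  have hh : Φ.lift.PreservesHomology := inferInstance
  refine exists_repOut_GO X (K742.coalgChart X G hPT) G.forget J (K309.cobW U W) (Wo ⋙ U.Cob)
    (K309.cobWl U W Wo l) (K858.CF.augW U σ) Φ.lift F₀ d (fun M hM => hM) (fun j M n hn => U.isZero_Cob _ n hn)
    (fun j M hM n => flat_Cob X U hG _ (hW j M hM) n) ?_ (K858.CF.quasiIso_augW U σ) (fun M hM => hM)
    (fun j => ?_) hπ hfin K a b hab' hT hd hs hK
  · intro M n
    obtain ⟨h0⟩ := hl M
    have h := isColimitOfPreserves (U.Cob ⋙ HomologicalComplex.eval C (ComplexShape.up ℤ) n) h0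
    exact ⟨⟨fun s => h.desc ⟨s.pt, ⟨fun j => s.ι.app j, fun i j φ => s.ι.naturality φ⟩⟩, fun s j => h.fac _ j,
      fun s m hm => h.uniq ⟨s.pt, ⟨fun j => s.ι.app j, fun i j φ => s.ι.naturality φ⟩⟩ m hm⟩⟩
  · obtain ⟨e⟩ := θ j
    exact ⟨K118.Lift.beta Φ e⟩

end Groth.Agent.ResProp.EF.K654
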