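import Groth.Agent.ResProp.EF.K654.Main5
import Groth.Agent.ResProp.EF.K140.UE
import Groth.Agent.ResProp.EF.K686.TensCEx
import Groth.Agent.ResProp.EF.K679.TwBC
import Groth.Agent.ResProp.EF.K755.Dir
import Groth.Agent.ResProp.EF.K309.HasTot
import Groth.Agent.ResProp.EF.X56.ChartF
import Groth.Agent.ResProp.EF.K494.SeamME

/-!
# G6c over `Comod A` (S16912, helper654)
-/

set_option autoImplicit false
set_option linter.dupNamespace false
set_option linter.style.haveILetI false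

universe u

open CategoryTheory CategoryTheory.Limits Opposite HomologicalComplex₂ ComplexShape TensorProduct

noncomputable section

namespace Groth.Agent.ResProp.EF.K654

open K784.BC K784.PM K741.RP EF56 K294 Grp Arch K967 K118.TotCob K496 K679.TwR

section Abs

variable {k : Type u} [CommRing k] {A : NFᵒᵖ ⥤ CommRingCat.{u}} [Fact (GR A)] (s : K742.KS k A)
  [Algebra k (A.obj (op (⟨0⟩ : NF)))]
  (hs : ∀ c : k, s.κ (op ⟨0⟩) c = algebraMap k (A.obj (op (⟨0⟩ : NF))) c)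
  (O : Type u) [CommRing O] [HopfAlgebra k O] [Module.Flat k O]

/-- the chart of the category of `(Γ, E)`-comodules -/
abbrev XE (hPT : K742.PresTor (chartF A) (K742.GO s O)) :
    K294.Chart (A.obj (op ⟨0⟩)) (K742.GO s O).Coalgebra := K742.coalgChart (chartF A) (K742.GO s O) hPT

/-- `K140.ueHom` for the chart `chartF A` -/
def ueF : CHom (K742.unitGO s O) (UO (A.obj (op ⟨0⟩)) ((A.obj (op (⟨0⟩ : NF)) : Type u) ⊗[k] O)) (chartF A).us :=
  K140.ueHom s hs O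

instance hasTotal_comod (K : HomologicalComplex₂ (Comod A) (up ℤ) (up ℤ)) : K.HasTotal (up ℤ) :=
  K309.hasTotal_of_hasCoproducts.{u} K

instance preservesZero_ueF : (ueF s hs O).lift.PreservesZeroMorphisms :=
  inferInstanceAs (K140.uE s hs O).PreservesZeroMorphisms

/-- G6c over `Comod A`, the twists as hypotheses -/
theorem exists_repOut_comod [IsNoetherianRing (A.obj (op ⟨0⟩))]
    (J : Type u) [SmallCategory J] [IsFiltered J]
    (W : J ⥤ (K742.GO s O).Coalgebra ⥤ (K742.GO s O).Coalgebra) [∀ j, (W.obj j).Additive]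
    (Wo : (K742.GO s O).Coalgebra ⥤ (K742.GO s O).Coalgebra) [Wo.Additive]
    (l : W ⟶ (Functor.const J).obj Wo)
    {P : Type u} [CommRing P] [Algebra (A.obj (op ⟨0⟩)) P] [IsNoetherianRing P]
    {E : Type u} [CommRing E] [Algebra (A.obj (op ⟨0⟩)) E] {π' : P →ₐ[A.obj (op ⟨0⟩)] E}
    {cE : K83.CoAlg (A.obj (op ⟨0⟩)) ((A.obj (op (⟨0⟩ : NF)) : Type u) ⊗[k] O) E} {r : ℕ}
    (S : J → Type u) [∀ j, AddCommGroup (S j)] [∀ j, Module k (S j)] [∀ j, Module.Finite k (S j)]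
    [∀ j, Module.Flat k (S j)] (dS : ∀ j, HopfRep.Comod k O (S j))
    (hPT : K742.PresTor (chartF A) (K742.GO s O))
    (hG : ∀ N : Comod A, Module.Flat (A.obj (op ⟨0⟩)) ((chartF A).us.obj N) →
      Module.Flat (A.obj (op ⟨0⟩)) ((chartF A).us.obj ((K742.GO s O).obj N)))
    (hW : ∀ (j : J) (M : (K742.GO s O).Coalgebra), Module.Flat (A.obj (op ⟨0⟩)) ((chartF A).us.obj M.A) →
      Module.Flat (A.obj (op ⟨0⟩)) ((chartF A).us.obj ((W.obj j).obj M).A))
    (hl : ∀ M : (K742.GO s O).Coalgebra,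
      Nonempty (IsColimit (((evaluation (K742.GO s O).Coalgebra (K742.GO s O).Coalgebra).obj M).mapCocone
        (Cocone.mk Wo l))))
    (σ : Wo ≅ (K742.GO s O).forget ⋙ (K742.GO s O).cofree)
    (θ : ∀ j, Nonempty (W.obj j ⋙ (ueF s hs O).lift ≅ (ueF s hs O).lift ⋙ twR (K679.TwBC.bcF (A.obj (op ⟨0⟩)) (dS j))))
    (hπ : Function.Surjective π')
    (hfin : K83.FinOut (A.obj (op ⟨0⟩)) ((A.obj (op (⟨0⟩ : NF)) : Type u) ⊗[k] O) E cE r)
    (K : CochainComplex (K742.GO s O).Coalgebra ℤ) (a b : ℤ) (hab' : a ≤ b) [K.IsStrictlyGE a] [K.IsStrictlyLE b]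
    (hT : TorGE a ((XE s O hPT).usC.obj K))
    [∀ i, Module P ((GO (A.obj (op ⟨0⟩)) ((A.obj (op (⟨0⟩ : NF)) : Type u) ⊗[k] O)).forget.obj
      (((((ueF s hs O).lift).mapHomologicalComplex (up ℤ)).obj K).X i))]
    [∀ i, IsScalarTower (A.obj (op ⟨0⟩)) P ((GO (A.obj (op ⟨0⟩)) ((A.obj (op (⟨0⟩ : NF)) : Type u) ⊗[k] O)).forget.obj
      (((((ueF s hs O).lift).mapHomologicalComplex (up ℤ)).obj K).X i))]
    (hd : ∀ i j, PLin P ((GO (A.obj (op ⟨0⟩)) ((A.obj (op (⟨0⟩ : NF)) : Type u) ⊗[k] O)).forget.map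
      (((((ueF s hs O).lift).mapHomologicalComplex (up ℤ)).obj K).d i j)))
    (hsm : ∀ i, K981.Small (P := P) π' cE.ρ
      ((coFun (A.obj (op ⟨0⟩)) ((A.obj (op (⟨0⟩ : NF)) : Type u) ⊗[k] O)).co
        (((((ueF s hs O).lift).mapHomologicalComplex (up ℤ)).obj K).X i)))
    (hK : ∀ i, Module.Finite P ((GO (A.obj (op ⟨0⟩)) ((A.obj (op (⟨0⟩ : NF)) : Type u) ⊗[k] O)).forget.obj
      (((((ueF s hs O).lift).mapHomologicalComplex (up ℤ)).obj K).X i))) :
    Nonempty (RepOut (chartF A) (XE s O hPT) (K742.GO s O).forget K a b) :=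
  exists_repOut_coalg (chartF A) (K742.unitGO s O) J W Wo l
    (fun j => (A.obj (op (⟨0⟩ : NF)) : Type u) ⊗[k] S j) (fun j => K679.TwBC.bcF (A.obj (op ⟨0⟩)) (dS j))
    hPT hG hW hl σ (ueF s hs O) θ hπ hfin K a b hab' hT hd hsm hK

end Abs

end Groth.Agent.ResProp.EF.K654
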