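import Groth.Agent.ResProp.EF.K409.Roof
import Groth.Agent.ResProp.EF.K566.KerSm
import Groth.Agent.ResProp.EF.K868.RoofHit
import Groth.Agent.ResProp.EF.K476.StmtRep

/-!
# Block (3) of `ArchTop`: `StmtAct` and `StmtKernelHit` (helper654)

`K409.exists_action` for the roof `cmCx KD ⟵ W ⟶ D.K` of a kernel datum and the smallness theory of helper566.
-/

set_option autoImplicit false
set_option backward.defeqAttrib.useBackward true
set_option backward.isDefEq.respectTransparency false
set_option backward.isDefEq.respectTransparency.types false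
set_option linter.dupNamespace false
set_option linter.style.haveILetI false

open CategoryTheory CategoryTheory.Limits Opposite HomologicalComplex

noncomputable section

namespace Groth.Agent.ResProp.EF.K654

open K784.BC K784.PM K741.RP EF56 Groth.Agent.ResProp.EF.K294 Grp Arch K494.Seam K868

attribute [local instance] K911.TChart.add K911.TChart.add_obj K911.TChart.hmb

universe u

variable {k : Type u} [CommRing k] {A : NFᵒᵖ ⥤ CommRingCat.{u}} [GRF k A] [Fact (GR A)]
  {x : PrimeSpectrum (A.obj (op ⟨0⟩))} {c : CoverDatum k A x}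

/-- (c4) for a kernel datum and a roof -/
theorem nonempty_actFor (KD : KernelDatum c) (r : KRoof KD) : Nonempty (ActFor KD r) := by
  haveI := r.qs
  haveI := r.qt
  haveI := r.geK
  haveI := r.leK
  haveI h1 : (cmCx KD.K KD.d KD.dd).IsStrictlyGE (-KD.e) :=
    isStrictlyGE_cmCx _ _ _ _ fun n hn => KD.bdd n (Or.inl hn)
  haveI h2 : (cmCx KD.K KD.d KD.dd).IsStrictlyLE 0 :=
    isStrictlyLE_cmCx _ _ _ _ fun n hn => KD.bdd n (Or.inr hn)
  obtain ⟨act, hnat, hsm⟩ := K409.exists_action (K566.smallKD KD) r.s r.t (-KD.e) 0 (fun n => r.D.flatK n)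
    (-KD.e) 0 (K566.actKc KD) (K566.smallKD_S KD)
  exact ⟨{
    act := fun Y p j => act Y j p
    small := fun Y hY j => by
      obtain ⟨l, u, hl, hu⟩ := hY
      exact hsm Y l u hl hu j
    nat := fun {Y Y'} _ _ f p => hnat Y Y' f 0 p }⟩

/-- **(c4)** -/
theorem stmtAct : StmtAct.{u} := fun _ _ _ _ _ _ _ _ _ KD r => nonempty_actFor KD r

/-- **F5 + generation** -/
theorem stmtRoofHit : StmtRoofHit.{u} := K868.stmtRoofHit stmtAct

/-- **block (3) of `ArchTop`** -/
theorem stmtKernelHit : StmtKernelHit.{u} := K868.stmtKernelHit K476.StmtRep.stmtRep stmtRoofHit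

end Groth.Agent.ResProp.EF.K654
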