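import Groth.Agent.ResProp.EF.K654.RepDatum
import Groth.Agent.ResProp.EF.K476.Univ
import Groth.Agent.ResProp.EF.K118.TotCob
import Groth.Agent.ResProp.EF.K309.TotColim
import Groth.Agent.ResProp.EF.K858.RowMap

/-!
# G6c: abstract assembly of the REP datum (S16912, helper654)

`D` = objects of `C` with an action of `E`, `u : D ⥤ C` the forgetful functor, `T : J ⥤ D ⥤ CochainComplex C ℤ` the
functors `M ↦ Cob(M ⊗ F_j)`, `To` the functor `M ↦ Cob(M ⊗ O)`, `p` its augmentation to `u`.  `F` a bounded complex of `D`,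
flat on the chart.  `repDatum` : the REP datum with `Ψ_j = Tot T_j(F)`, `K = u F`.
`Mod`: `M` = comodules over `R ⊗ O`, `uE : D ⥤ M` the evaluation on the chart, `Θ : M ⥤ CochainComplex (ModuleCat R) ℤ`
the functor `V ↦ Cob(V ⊗ F_j)`, `τ : M ⥤ M` the functor `V ↦ V ⊗_R N`: finiteness and vanishing of the cohomology of
`us Ψ_j ⊗ N` from the cohomology objects of `τ (uE F)`.
-/

set_option autoImplicit false

universe w₁ v₁ w₂ v₂ w v u

open CategoryTheory CategoryTheory.Limits HomologicalComplex₂ ComplexShape MonoidalCategory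

namespace Groth.Agent.ResProp.EF.K654

open Groth.Agent.ResProp.EF.K294 K118.TotCob K236.TotalTools Groth.Agent.Htor.H253.TotalPrj

section Rep

variable {A : Type u} [CommRing A] {C : Type v} [Category.{w} C] [Abelian C] (X : Chart A C)
  [∀ K : HomologicalComplex₂ C (up ℤ) (up ℤ), K.HasTotal (up ℤ)]
  {D : Type v₁} [Category.{w₁} D] [Abelian D]
  (J : Type u) [SmallCategory J] [IsFiltered J] [HasColimitsOfShape J C]
  (T : J ⥤ D ⥤ CochainComplex C ℤ) [∀ j, (T.obj j).Additive]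
  (To : D ⥤ CochainComplex C ℤ) [To.Additive] (l : T ⟶ (Functor.const J).obj To)
  (u : D ⥤ C) [u.Additive] (p : K858.Aug To u)
  (F : CochainComplex D ℤ) (a b₀ b : ℤ) [F.IsStrictlyGE a] [F.IsStrictlyLE b₀]

omit [∀ K : HomologicalComplex₂ C (up ℤ) (up ℤ), K.HasTotal (up ℤ)] in
theorem isZero_neg (G : D ⥤ CochainComplex C ℤ) [G.Additive] (K : CochainComplex D ℤ) (a : ℤ) [K.IsStrictlyGE a]
    (hG : ∀ (M : D) (n : ℤ), n < 0 → IsZero ((G.obj M).X n)) : K380.DC.Quad a 0 (K380.DCF.dc G K) :=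
  K380.DCF.quad G hG K fun i hi => K.isZero_of_isStrictlyGE a i hi

/-- the augmentation of the colimit -/
noncomputable def eMap : (K309.sysCocone T F To l).pt ⟶ (u.mapHomologicalComplex (up ℤ)).obj F := p.row F

include a in
theorem quasiIso_eMap (hq : ∀ M : D, QuasiIso (p.toSgl.app M)) : QuasiIso (eMap J T To l u p F) :=
  p.quasiIso_row hq (a := a) F fun i hi => F.isZero_of_isStrictlyGE a i hi

/-- **the REP datum** from the functors `T_j` and a flat model `F` -/
noncomputable def repDatum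
    (hneg : ∀ (j : J) (M : D) (n : ℤ), n < 0 → IsZero (((T.obj j).obj M).X n))
    (hflat : ∀ (j : J) (M : D), Module.Flat A (X.us.obj (u.obj M)) →
      ∀ n : ℤ, Module.Flat A (X.us.obj (((T.obj j).obj M).X n)))
    (hc : ∀ (M : D) (n : ℤ), IsColimit ((((evaluation D (CochainComplex C ℤ)).obj M) ⋙
      HomologicalComplex.eval C (up ℤ) n).mapCocone (K309.fCocone T To l)))
    (hq : ∀ M : D, QuasiIso (p.toSgl.app M))
    (hF : ∀ i : ℤ, Module.Flat A (X.us.obj (u.obj (F.X i))))
    (fin : ∀ (j : J) (n : ℤ), Module.Finite A ((X.usC.obj ((K309.sysTot T F).obj j)).homology n))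
    (van : ∀ (j : J) (N : ModuleCat.{u} A) (n : ℤ), b < n →
      IsZero ((K476.Mum.tens (X.usC.obj ((K309.sysTot T F).obj j)) N).homology n)) :
    RepDatum.{u} X where
  K := (u.mapHomologicalComplex (up ℤ)).obj F
  a := a
  b := b
  geK := inferInstance
  leK := ⟨b₀, inferInstance⟩
  flatK n := hF n
  J := J
  Ψ := K309.sysTot T F
  ge j := isStrictlyGE_total (isZero_neg (T.obj j) F a (hneg j)) a (by simp)
  flat j n := flat_total_X X.us (isZero_neg (T.obj j) F a (hneg j)).bdd (fun i j' => hflat j _ (hF i) j') n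
  fin := fin
  van := van
  c := K309.sysCocone T F To l
  isColimit := K309.isColimitSys T F To l hc
  e := eMap J T To l u p F
  univ N := by
    have h1 := quasiIso_eMap J T To l u p F a hq
    exact K476.Univ.univ_colim (K309.sysTot T F) (K309.sysCocone T F To l) (K309.isColimitSys T F To l hc) b
      (fun j n => flat_total_X X.us (isZero_neg (T.obj j) F a (hneg j)).bdd (fun i j' => hflat j _ (hF i) j') n)
      van (eMap J T To l u p F) (K := (u.mapHomologicalComplex (up ℤ)).obj F) (fun n => hF n) b₀ N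

end Rep

section Mod

variable {A : Type u} [CommRing A] {C : Type v} [Category.{w} C] [Abelian C] (X : Chart A C)
  {D : Type v₁} [Category.{w₁} D] [Abelian D] {M : Type v₂} [Category.{w₂} M] [Abelian M]
  (T : D ⥤ CochainComplex C ℤ) [T.Additive]
  (uE : D ⥤ M) [uE.Additive]
  (Θ : M ⥤ CochainComplex (ModuleCat.{u} A) ℤ) [Θ.Additive] [PreservesFiniteLimits Θ] [PreservesFiniteColimits Θ]
  (hΘ : ∀ (V : M) (n : ℤ), n < 0 → IsZero ((Θ.obj V).X n))
  (hT : ∀ (V : D) (n : ℤ), n < 0 → IsZero ((T.obj V).X n))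
  (β : T ⋙ X.usC ≅ uE ⋙ Θ)
  (F : CochainComplex D ℤ) (a b₀ : ℤ) [F.IsStrictlyGE a] [F.IsStrictlyLE b₀]
  [HomologicalComplex₂.HasTotal (K380.DCF.dc T F) (up ℤ)]

include hΘ hT β a

omit [F.IsStrictlyLE b₀] in
/-- the cohomology of `us Ψ` in a Serre class -/
theorem serre_of (P : ObjectProperty (ModuleCat.{u} A)) [P.IsSerreClass] (n : ℤ)
    (h : ∀ i j : ℤ, i + j = n → P ((Θ.obj (((uE.mapHomologicalComplex (up ℤ)).obj F).homology i)).homology j)) :
    P ((X.usC.obj (HomologicalComplex₂.total (K380.DCF.dc T F) (up ℤ))).homology n) := by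
  have q : K380.DC.Quad a 0 (K380.DCF.dc T F) := K380.DCF.quad T hT F fun i hi => F.isZero_of_isStrictlyGE a i hi
  have q' : K380.DC.Quad a 0 (K380.DCF.dc Θ (mc uE F)) :=
    K380.DCF.quad Θ hΘ _ fun i hi => uE.map_isZero (F.isZero_of_isStrictlyGE a i hi)
  have t' := q'.hasTotal
  have e := (HomologicalComplex.homologyFunctor (ModuleCat.{u} A) (up ℤ) n).mapIso (totIso (Φ := X.us) β q.bdd)
  have h1 := K380.DCF.main Θ P (a := a) (b := 0) hΘ (mc uE F)
    (fun i hi => uE.map_isZero (F.isZero_of_isStrictlyGE a i hi)) n h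
  exact P.prop_of_iso e.symm h1

omit [F.IsStrictlyLE b₀] in
/-- the cohomology of `us Ψ ⊗ N` in a Serre class -/
theorem serreTens_of (N : ModuleCat.{u} A) (τ : M ⥤ M) [τ.Additive]
    (γ : Θ ⋙ (tensorRight N).mapHomologicalComplex (up ℤ) ≅ τ ⋙ Θ)
    (P : ObjectProperty (ModuleCat.{u} A)) [P.IsSerreClass] (n : ℤ)
    (h : ∀ i j : ℤ, i + j = n →
      P ((Θ.obj (((τ.mapHomologicalComplex (up ℤ)).obj ((uE.mapHomologicalComplex (up ℤ)).obj F)).homology i)).homology j)) :
    P ((K476.Mum.tens (X.usC.obj (HomologicalComplex₂.total (K380.DCF.dc T F) (up ℤ))) N).homology n) := by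
  have q : K380.DC.Quad a 0 (K380.DCF.dc T F) := K380.DCF.quad T hT F fun i hi => F.isZero_of_isStrictlyGE a i hi
  have q' : K380.DC.Quad a 0 (K380.DCF.dc Θ (mc uE F)) :=
    K380.DCF.quad Θ hΘ _ fun i hi => uE.map_isZero (F.isZero_of_isStrictlyGE a i hi)
  have q'' : K380.DC.Quad a 0 (K380.DCF.dc Θ (mc τ (mc uE F))) :=
    K380.DCF.quad Θ hΘ _ fun i hi => τ.map_isZero (uE.map_isZero (F.isZero_of_isStrictlyGE a i hi))
  have t' := q'.hasTotal
  have t'' := q''.hasTotal
  have e1 := (HomologicalComplex.homologyFunctor (ModuleCat.{u} A) (up ℤ) n).mapIso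
    (((tensorRight N).mapHomologicalComplex (up ℤ)).mapIso (totIso (Φ := X.us) β q.bdd))
  have e2 := (HomologicalComplex.homologyFunctor (ModuleCat.{u} A) (up ℤ) n).mapIso
    (totIso (Φ := tensorRight N) γ q'.bdd)
  have h1 := K380.DCF.main Θ P (a := a) (b := 0) hΘ (mc τ (mc uE F))
    (fun i hi => τ.map_isZero (uE.map_isZero (F.isZero_of_isStrictlyGE a i hi))) n h
  exact P.prop_of_iso (e1 ≪≫ e2).symm h1

/-- vanishing of the cohomology of `us Ψ ⊗ N` above `b₀ + r` -/
theorem van_of (N : ModuleCat.{u} A) (τ : M ⥤ M) [τ.Additive]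
    (γ : Θ ⋙ (tensorRight N).mapHomologicalComplex (up ℤ) ≅ τ ⋙ Θ) (r n : ℤ) (hn : b₀ + r < n)
    (h : ∀ i j : ℤ, r < j →
      IsZero ((Θ.obj (((τ.mapHomologicalComplex (up ℤ)).obj ((uE.mapHomologicalComplex (up ℤ)).obj F)).homology i)).homology j)) :
    IsZero ((K476.Mum.tens (X.usC.obj (HomologicalComplex₂.total (K380.DCF.dc T F) (up ℤ))) N).homology n) := by
  refine serreTens_of X T uE Θ hΘ hT β F a N τ γ (fun Z => IsZero Z) n fun i j hij => ?_
  by_cases hj : r < j
  · exact h i j hj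
  · refine Functor.map_isZero (HomologicalComplex.homologyFunctor (ModuleCat.{u} A) (up ℤ) j) (Θ.map_isZero ?_)
    exact (HomologicalComplex.ExactAt.of_isZero
      (τ.map_isZero (uE.map_isZero (F.isZero_of_isStrictlyLE b₀ i (by lia))))).isZero_homology

end Mod

end Groth.Agent.ResProp.EF.K654
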