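import Groth.Agent.ResProp.EF.K654.Main1
import Groth.Agent.ResProp.EF.K967.ChartC
import Groth.Agent.ResProp.EF.K945.Roof
import Groth.Agent.ResProp.EF.K78.FlatModel
import Mathlib.CategoryTheory.Abelian.Projective.Extend
import Mathlib.Algebra.Category.ModuleCat.Projective

/-!
# G6c: finiteness and vanishing on the chart, final abstract form (S16912, helper654)

`ME` = comodules over `H = R ⊗ O(E)` (`U : ME ⥤ ModuleCat R`, `G : K967.CoFun H U`), `tn` = tensor product with modules.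
`K` a bounded complex in `ME` with `P`-linear differentials, small finite terms; `F` a bounded above complex with flat
terms, `W ⟶ K`, `W ⟶ F` quasi-isomorphisms.  `Θ : ME ⥤ CochainComplex (ModuleCat R) ℤ` with `H^m(Θ V) = H^m(E, V ⊗ F₀)`.
-/

set_option autoImplicit false

universe w₁ v₁ w₂ v₂ w v u

open CategoryTheory CategoryTheory.Limits HomologicalComplex ComplexShape MonoidalCategory TensorProduct

namespace Groth.Agent.ResProp.EF.K654

open Groth.Agent.ResProp.EF.K294 K967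

section Coh

variable {R : Type u} [CommRing R] [IsNoetherianRing R] {P : Type u} [CommRing P] [Algebra R P]
  {H : Type u} [CommRing H] [HopfAlgebra R H] [Module.Flat R H]
  {E : Type u} [CommRing E] [Algebra R E] {π' : P →ₐ[R] E} {cE : K83.CoAlg R H E} {r : ℕ}
  {ME : Type w₂} [Category.{v₂} ME] [Abelian ME] {U : ME ⥤ ModuleCat.{u} R} [U.Additive]
  [PreservesFiniteLimits U] [PreservesFiniteColimits U] [PreservesColimitsOfSize.{0, 0} U]
  {G : CoFun H U} {tn : ME ⥤ ModuleCat.{u} R ⥤ ME}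

/-- the functor `Θ` computes the cohomology of `V ⊗ F₀` -/
def ThetaH (G : CoFun H U) (Θ : ME ⥤ CochainComplex (ModuleCat.{u} R) ℤ) {F₀ : Type u} [AddCommGroup F₀] [Module R F₀]
    (d : HopfRep.Comod R H F₀) : Prop :=
  ∀ (V : ME) (m : ℕ), Nonempty (((Θ.obj V).homology (m : ℤ) : Type u) ≃ₗ[R] @Hoch.H R _ H _ _
      ((U.obj V : Type u) ⊗[R] F₀) _ _ (ComodTens.Comod.tensor (G.co V) d) m)

/-- **vanishing**: `H^j(Θ(H^i(F ⊗ N))) = 0` for `j > r` -/
theorem van_chart (hπ : Function.Surjective π') (hfin : K83.FinOut R H E cE r)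
    [tn.Additive] [∀ M, (tn.obj M).Additive] [HasCoproducts.{0} ME]
    [HasColimitsOfShape ℕ ME] [HasExactColimitsOfShape ℕ ME]
    [∀ M : ME, PreservesColimitsOfShape ℕ (tn.obj M)]
    [∀ M : ModuleCat.{u} R, PreservesColimitsOfShape ℕ (tn.flip.obj M)]
    (S : TensFun G tn)
    (ex₁ : ∀ V : ME, Module.Flat R (U.obj V) → (tn.obj V).PreservesHomology)
    (ex₂ : ∀ N : ModuleCat.{u} R, Module.Flat R N → (tn.flip.obj N).PreservesHomology)
    (K W F : CochainComplex ME ℤ) [∀ i, Module P (U.obj (K.X i))]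
    [∀ i, IsScalarTower R P (U.obj (K.X i))] (hd : ∀ i j, PLin P (U.map (K.d i j))) (a b : ℤ)
    (hab : ∀ i, (i < a ∨ b < i) → Subsingleton (U.obj (K.X i)))
    (hs : ∀ i, K981.Small (P := P) π' cE.ρ (G.co (K.X i)))
    (b' : ℤ) [F.IsStrictlyLE b'] (hF : ∀ i, Module.Flat R (U.obj (F.X i)))
    (s : W ⟶ K) (t : W ⟶ F) [QuasiIso s] [QuasiIso t] (N : ModuleCat.{u} R)
    (Θ : ME ⥤ CochainComplex (ModuleCat.{u} R) ℤ) {F₀ : Type u} [AddCommGroup F₀] [Module R F₀]
    (d : HopfRep.Comod R H F₀) (hΘ : ThetaH G Θ d) (i j : ℤ) (hj : r < j) :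
    IsZero ((Θ.obj ((((tn.flip.obj N).mapHomologicalComplex (up ℤ)).obj F).homology i)).homology j) := by
  haveI hmb : ∀ (K₁ : CochainComplex ME ℤ) (K₂ : CochainComplex (ModuleCat.{u} R) ℤ),
    CochainComplex.HasMapBifunctor K₁ K₂ tn := K945.hasMapBifunctor tn
  let Res : ProjectiveResolution N := (HasProjectiveResolutions.out N).out.some
  let L : CochainComplex (ModuleCat.{u} R) ℤ := Res.cochainComplex
  have hL : ∀ n, Module.Flat R (L.X n) := by
    intro n
    have h1 : Projective (L.X n) := inferInstanceAs (Projective (Res.cochainComplex.X n))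
    have h2 : Module.Projective R (L.X n) := (IsProjective.iff_projective (L.X n)).2 h1
    infer_instance
  let ε : L ⟶ (HomologicalComplex.single (ModuleCat.{u} R) (up ℤ) 0).obj N := Res.π'
  have hε : QuasiIso ε := inferInstanceAs (QuasiIso Res.π')
  have hL0 : L.IsStrictlyLE 0 := inferInstanceAs (Res.cochainComplex.IsStrictlyLE 0)
  obtain ⟨e⟩ := K945.roof (T := tn) t s b' 0 (fun n => ex₁ _ (hF n)) N L (fun n => ex₂ _ (hL n)) ε i
  obtain ⟨h1, -⟩ := chart_coh (P := P) hπ hfin S K hd a b hab hs L i d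
  obtain ⟨m, rfl⟩ : ∃ m : ℕ, j = m := ⟨j.toNat, by omega⟩
  obtain ⟨e'⟩ := hΘ ((HomologicalComplex.mapBifunctor K L tn (up ℤ)).homology i) m
  have h2 := h1 m (by exact_mod_cast hj)
  have h3 : Subsingleton ((Θ.obj ((HomologicalComplex.mapBifunctor K L tn (up ℤ)).homology i)).homology (m : ℤ)) :=
    e'.toEquiv.subsingleton
  have h4 : IsZero ((Θ.obj ((HomologicalComplex.mapBifunctor K L tn (up ℤ)).homology i)).homology (m : ℤ)) :=
    ModuleCat.isZero_of_subsingleton _
  exact h4.of_iso ((HomologicalComplex.homologyFunctor (ModuleCat.{u} R) (up ℤ) (m : ℤ)).mapIso (Θ.mapIso e))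

omit [PreservesColimitsOfSize.{0, 0} U] in
/-- **finiteness**: `H^j(Θ(H^i(F)))` is finitely generated -/
theorem fin_chart (hπ : Function.Surjective π') (hfin : K83.FinOut R H E cE r) [IsNoetherianRing P]
    (K W F : CochainComplex ME ℤ) [∀ i, Module P (U.obj (K.X i))]
    [∀ i, IsScalarTower R P (U.obj (K.X i))] (hd : ∀ i j, PLin P (U.map (K.d i j)))
    (hs : ∀ i, K981.Small (P := P) π' cE.ρ (G.co (K.X i))) (hK : ∀ i, Module.Finite P (U.obj (K.X i)))
    (s : W ⟶ K) (t : W ⟶ F) [QuasiIso s] [QuasiIso t]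
    (Θ : ME ⥤ CochainComplex (ModuleCat.{u} R) ℤ) {F₀ : Type u} [AddCommGroup F₀] [Module R F₀] [Module.Finite R F₀]
    (d : HopfRep.Comod R H F₀) (hΘ : ThetaH G Θ d) (hneg : ∀ (V : ME) (n : ℤ), n < 0 → IsZero ((Θ.obj V).X n))
    (i j : ℤ) : Module.Finite R ((Θ.obj (F.homology i)).homology j) := by
  rcases lt_or_ge j 0 with hj | hj
  · have h1 : IsZero ((Θ.obj (F.homology i)).homology j) :=
      (HomologicalComplex.ExactAt.of_isZero (hneg _ j hj)).isZero_homology
    have h2 := ModuleCat.subsingleton_of_isZero h1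
    infer_instance
  · obtain ⟨m, rfl⟩ : ∃ m : ℕ, j = m := ⟨j.toNat, by omega⟩
    have e : F.homology i ≅ K.homology i :=
      (asIso (HomologicalComplex.homologyMap t i)).symm ≪≫ asIso (HomologicalComplex.homologyMap s i)
    obtain ⟨m', t', h1, h2⟩ := small_homology (P := P) (π := π') (ρD := cE.ρ) G K hd i (hs i)
    obtain ⟨-, h4⟩ := cohSmall hπ hfin (G.co (K.homology i)) d h1
    have h5 := h4 inferInstance (h2 inferInstance (hK i)) inferInstance m
    obtain ⟨e'⟩ := hΘ (K.homology i) m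
    have h6 : Module.Finite R ((Θ.obj (K.homology i)).homology (m : ℤ)) := Module.Finite.equiv e'.symm
    have e2 : (Θ.obj (F.homology i)).homology (m : ℤ) ≅ (Θ.obj (K.homology i)).homology (m : ℤ) :=
      (HomologicalComplex.homologyFunctor (ModuleCat.{u} R) (up ℤ) (m : ℤ)).mapIso (Θ.mapIso e)
    exact Module.Finite.equiv e2.toLinearEquiv.symm

end Coh

end Groth.Agent.ResProp.EF.K654
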