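import Groth.Agent.ResProp.EF.K654.Main3
import Groth.Agent.ResProp.EF.K967.ChartGO
import Groth.Agent.ResProp.EF.K679.TwN

/-!
# G6c: the theorem with `ME = (GO R H).Coalgebra` (S16912, helper654)

`ME` = 496's category of `H`-comodules, `tn` = 945's tensor product with modules, `Θ_j = twR (F_j) ⋙ Cob` (679, 496).
-/

set_option autoImplicit false

universe w₁ v₁ w v u

open CategoryTheory CategoryTheory.Limits HomologicalComplex₂ ComplexShape MonoidalCategory TensorProduct

namespace Groth.Agent.ResProp.EF.K654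

open Groth.Agent.ResProp.EF.K294 K967 K118.TotCob K496 K679.TwR

variable {R : Type u} [CommRing R] [IsNoetherianRing R]
  {C : Type v} [Category.{w} C] [Abelian C] (X : Chart R C)
  [∀ K : HomologicalComplex₂ C (up ℤ) (up ℤ), K.HasTotal (up ℤ)]
  {D : Type v₁} [Category.{w₁} D] [Abelian D] (XE : Chart R D)
  (u : D ⥤ C) [u.Additive]
  (J : Type u) [SmallCategory J] [IsFiltered J] [HasColimitsOfShape J C]
  (T : J ⥤ D ⥤ CochainComplex C ℤ) [∀ j, (T.obj j).Additive]
  (To : D ⥤ CochainComplex C ℤ) [To.Additive] (l : T ⟶ (Functor.const J).obj To)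
  (p : K858.Aug To u)
  {P : Type u} [CommRing P] [Algebra R P] [IsNoetherianRing P]
  {H : Type u} [CommRing H] [HopfAlgebra R H] [Module.Flat R H]
  {E : Type u} [CommRing E] [Algebra R E] {π' : P →ₐ[R] E} {cE : K83.CoAlg R H E} {r : ℕ}
  (uE : D ⥤ (GO R H).Coalgebra) [uE.Additive] [uE.PreservesHomology]
  (F₀ : J → Type u) [∀ j, AddCommGroup (F₀ j)] [∀ j, Module R (F₀ j)] [∀ j, Module.Finite R (F₀ j)]
  [∀ j, Module.Flat R (F₀ j)] (d : ∀ j, HopfRep.Comod R H (F₀ j))

/-- `V ↦ Cob(V ⊗ F₀)` -/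
noncomputable abbrev ThR {F₀ : Type u} [AddCommGroup F₀] [Module R F₀] (d : HopfRep.Comod R H F₀) :
    (GO R H).Coalgebra ⥤ CochainComplex (ModuleCat.{u} R) ℤ := twR d ⋙ (UO R H).Cob

omit [IsNoetherianRing R] [Module.Flat R H] in
theorem thetaH_ThR {F₀ : Type u} [AddCommGroup F₀] [Module R F₀] (d : HopfRep.Comod R H F₀) :
    ThetaH (coFun R H) (ThR d) d := fun V m => ⟨cobEquiv ((twR d).obj V) m⟩

/-- **G6c with the concrete category of comodules over the chart** -/
theorem exists_repOut_GO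
    (hu : ∀ M, Module.Flat R (XE.us.obj M) → Module.Flat R (X.us.obj (u.obj M)))
    (hneg : ∀ (j : J) (M : D) (n : ℤ), n < 0 → IsZero (((T.obj j).obj M).X n))
    (hflat : ∀ (j : J) (M : D), Module.Flat R (X.us.obj (u.obj M)) →
      ∀ n : ℤ, Module.Flat R (X.us.obj (((T.obj j).obj M).X n)))
    (hc : ∀ (M : D) (n : ℤ), Nonempty (IsColimit ((((evaluation D (CochainComplex C ℤ)).obj M) ⋙
      HomologicalComplex.eval C (up ℤ) n).mapCocone (K309.fCocone T To l))))
    (hq : ∀ M : D, QuasiIso (p.toSgl.app M))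
    (hE : ∀ M, Module.Flat R (XE.us.obj M) → Module.Flat R ((GO R H).forget.obj (uE.obj M)))
    (β : ∀ j, Nonempty (T.obj j ⋙ X.usC ≅ uE ⋙ ThR (d j)))
    (hπ : Function.Surjective π') (hfin : K83.FinOut R H E cE r)
    (K : CochainComplex D ℤ) (a b : ℤ) (hab' : a ≤ b) [K.IsStrictlyGE a] [K.IsStrictlyLE b]
    (hT : TorGE a (XE.usC.obj K))
    [∀ i, Module P ((GO R H).forget.obj ((mc uE K).X i))]
    [∀ i, IsScalarTower R P ((GO R H).forget.obj ((mc uE K).X i))]
    (hd : ∀ i j, PLin P ((GO R H).forget.map ((mc uE K).d i j)))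
    (hs : ∀ i, K981.Small (P := P) π' cE.ρ ((coFun R H).co ((mc uE K).X i)))
    (hK : ∀ i, Module.Finite P ((GO R H).forget.obj ((mc uE K).X i))) :
    Nonempty (RepOut X XE u K a b) := by
  haveI : PreservesColimitsOfSize.{0, 0} (GO R H).forget := ⟨inferInstance⟩
  haveI : HasExactColimitsOfShape ℕ (GO R H).Coalgebra := inferInstance
  refine exists_repOut (U := (GO R H).forget) (G := coFun R H) (tn := (K945.sGO R H).bifunctor) X XE u J T To l p uE
    (fun j => ThR (d j)) F₀ d hu hneg hflat hc hq hE (tensFun R H) ?_ ?_ ?_ (fun j => thetaH_ThR (d j)) β ?_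
    hπ hfin K a b hab' hT hd hs hK
  · intro V hV
    have hV' : Module.Flat R V.A := hV
    have := K945.preservesHomology_tensorLeft V.A
    exact (K945.sGO R H).preservesHomology_obj V
  · intro N hN
    have := K945.preservesHomology_tensorRight N
    exact (K945.sGO R H).preservesHomology_flip_obj N
  · intro j V n hn
    exact (UO R H).isZero_Cob _ n hn
  · intro j N
    exact ⟨gammaTw (d j) N⟩

end Groth.Agent.ResProp.EF.K654
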