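import Groth.Agent.CohDer.K236.TotalTools
import Mathlib.Algebra.Homology.HomologicalComplexLimits
import Mathlib.Algebra.Homology.Embedding.CochainComplex

/-!
# Total complexes: colimits, bicomplexes concentrated in one row (S16912, G6c, helper654)

* `isColimitTotal`: total complexes commute with colimits (computed in each bidegree).
* `rowIso`: the total complex of `i ↦ (Y^i)[0]` is `Y`.
* `augTotal`: from `ε : Φ ⟶ u ⋙ single₀` (natural, quasi-isomorphism on every object) the quasi-isomorphism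
  `Tot Φ(K) ⟶ u K`.
-/

set_option autoImplicit false

universe w v u w' v'

open CategoryTheory CategoryTheory.Limits HomologicalComplex₂ ComplexShape

namespace Groth.Agent.ResProp.EF.K654.Tot

open Groth.Agent.Htor.H253.TotalPrj Groth.Agent.Htor.H253.TotalQuasi K236.TotalTools

section Colim

variable {C : Type v} [Category.{w} C] [Preadditive C]
  [∀ D : HomologicalComplex₂ C (up ℤ) (up ℤ), D.HasTotal (up ℤ)]
  {J : Type v'} [Category.{w'} J] {D : J ⥤ HomologicalComplex₂ C (up ℤ) (up ℤ)} (c : Cocone D)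

/-- the cocone in bidegree `(i, j)` -/
noncomputable abbrev bi (i j : ℤ) :
    Cocone ((D ⋙ HomologicalComplex.eval (CochainComplex C ℤ) (up ℤ) i) ⋙ HomologicalComplex.eval C (up ℤ) j) :=
  (HomologicalComplex.eval C (up ℤ) j).mapCocone ((HomologicalComplex.eval (CochainComplex C ℤ) (up ℤ) i).mapCocone c)

variable {c}

/-- the cocone in bidegree `(i, j)` obtained from a cocone over the total complexes in degree `n` -/
noncomputable def biOf {n : ℤ} (s : Cocone ((D ⋙ totalFunctor C (up ℤ) (up ℤ) (up ℤ)) ⋙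
    HomologicalComplex.eval C (up ℤ) n)) (i j : ℤ) (h : i + j = n) :
    Cocone ((D ⋙ HomologicalComplex.eval (CochainComplex C ℤ) (up ℤ) i) ⋙ HomologicalComplex.eval C (up ℤ) j) where
  pt := s.pt
  ι :=
    { app := fun S => (D.obj S).ιTotal (up ℤ) i j n h ≫ s.ι.app S
      naturality := fun S S' f => by
        have h1 := s.ι.naturality f
        have h2 := ιTotal_map (D.obj S) (D.obj S') (D.map f) (up ℤ) i j n h
        change ((D.map f).f i).f j ≫ (D.obj S').ιTotal (up ℤ) i j n h ≫ s.ι.app S' = _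
        rw [← Category.assoc, ← h2, Category.assoc]
        erw [h1]
        simp
        rfl }

theorem biOf_app {n : ℤ} (s : Cocone ((D ⋙ totalFunctor C (up ℤ) (up ℤ) (up ℤ)) ⋙
    HomologicalComplex.eval C (up ℤ) n)) (i j : ℤ) (h : i + j = n) (S : J) :
    (biOf s i j h).ι.app S = (D.obj S).ιTotal (up ℤ) i j n h ≫ s.ι.app S := rfl

/-- total complexes commute with colimits -/
noncomputable def isColimitTotal (hc : ∀ i j : ℤ, IsColimit (bi c i j)) :
    IsColimit ((totalFunctor C (up ℤ) (up ℤ) (up ℤ)).mapCocone c) :=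
  HomologicalComplex.isColimitOfEval _ _ fun n =>
    { desc := fun s => c.pt.totalDesc (fun i j h => (hc i j).desc (biOf s i j h))
      fac := fun s S => by
        apply total.hom_ext
        intro i j hij
        have h1 := ιTotal_map (D.obj S) c.pt (c.ι.app S) (up ℤ) i j n hij
        have h2 := (hc i j).fac (biOf s i j hij) S
        change (D.obj S).ιTotal (up ℤ) i j n hij ≫ (total.map (c.ι.app S) (up ℤ)).f n ≫ _ = _
        rw [← Category.assoc, h1, Category.assoc, ι_totalDesc]
        exact h2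
      uniq := fun s m hm => by
        apply total.hom_ext
        intro i j hij
        rw [ι_totalDesc]
        refine (hc i j).uniq (biOf s i j hij) _ fun S => ?_
        rw [biOf_app, ← hm S]
        have h1 := ιTotal_map (D.obj S) c.pt (c.ι.app S) (up ℤ) i j n hij
        change ((c.ι.app S).f i).f j ≫ c.pt.ιTotal (up ℤ) i j n hij ≫ m =
          (D.obj S).ιTotal (up ℤ) i j n hij ≫ (total.map (c.ι.app S) (up ℤ)).f n ≫ m
        rw [← Category.assoc, ← h1, Category.assoc] }

end Colim

section Row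

variable {C : Type v} [Category.{w} C] [Abelian C] (Y : CochainComplex C ℤ)

/-- the bicomplex `i ↦ (Y^i)[0]` -/
noncomputable abbrev row : HomologicalComplex₂ C (up ℤ) (up ℤ) :=
  ((HomologicalComplex.single C (up ℤ) 0).mapHomologicalComplex (up ℤ)).obj Y

theorem isZero_row (i j : ℤ) (h : j ≠ 0) : IsZero (((row Y).X i).X j) :=
  HomologicalComplex.isZero_single_obj_X (up ℤ) 0 (Y.X i) j h

theorem bdd_row : Bdd (row Y) := fun n => ⟨n, n, fun i j hij h => isZero_row Y i j (by lia)⟩

/-- the terms in the row `0` -/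
noncomputable def rowX (n : ℤ) : Y.X n ≅ ((row Y).X n).X 0 :=
  (HomologicalComplex.singleObjXSelf (up ℤ) 0 (Y.X n)).symm

theorem rowX_d (n n' : ℤ) : (rowX Y n).hom ≫ ((row Y).d n n').f 0 = Y.d n n' ≫ (rowX Y n').hom := by
  change (HomologicalComplex.singleObjXSelf (up ℤ) 0 (Y.X n)).inv ≫
    ((HomologicalComplex.single C (up ℤ) 0).map (Y.d n n')).f 0 =
      Y.d n n' ≫ (HomologicalComplex.singleObjXSelf (up ℤ) 0 (Y.X n')).inv
  rw [HomologicalComplex.single_map_f_self, Iso.inv_hom_id_assoc]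

theorem row_d (n j : ℤ) (h : j ≠ 0) : ((row Y).X n).d 0 j = 0 := (isZero_row Y n j h).eq_of_tgt _ _

variable [(row Y).HasTotal (up ℤ)]

/-- the inclusion -/
noncomputable def rowHom (n : ℤ) : Y.X n ⟶ ((row Y).total (up ℤ)).X n :=
  (rowX Y n).hom ≫ (row Y).ιTotal (up ℤ) n 0 n (by dsimp; lia)

theorem rowHom_comm (n n' : ℤ) (hn : n + 1 = n') :
    rowHom Y n ≫ ((row Y).total (up ℤ)).d n n' = Y.d n n' ≫ rowHom Y n' := by
  rw [rowHom, Category.assoc, ι_d' (row Y) n 0 n' 1 n n' hn rfl (by lia) hn, row_d Y n 1 (by lia),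
    Limits.zero_comp, smul_zero, add_zero, rowHom, reassoc_of% (rowX_d Y n n')]

/-- the isomorphism in degree `n` -/
noncomputable def rowIsoX (n : ℤ) : Y.X n ≅ ((row Y).total (up ℤ)).X n where
  hom := rowHom Y n
  inv := prj (row Y) n 0 n ≫ (rowX Y n).inv
  hom_inv_id := by
    rw [rowHom, Category.assoc, reassoc_of% (ι_prj (row Y) n 0 n (by lia)), Iso.hom_inv_id]
  inv_hom_id := by
    refine ext_prj (bdd_row Y) fun i j hij => ?_
    by_cases hj : j = 0
    · subst hj
      obtain rfl : n = i := by lia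
      rw [rowHom, Category.assoc, Category.assoc, Category.assoc, ι_prj (row Y) n 0 n (by lia), Category.comp_id,
        Iso.inv_hom_id, Category.comp_id, Category.id_comp]
    · exact (isZero_row Y i j hj).eq_of_tgt _ _

/-- the total complex of `i ↦ (Y^i)[0]` is `Y` -/
noncomputable def rowIso : Y ≅ (row Y).total (up ℤ) :=
  HomologicalComplex.Hom.isoOfComponents (rowIsoX Y) (fun n n' h => rowHom_comm Y n n' h)

end Row

section Aug

variable {D : Type v'} [Category.{w'} D] [Abelian D] {C : Type v} [Category.{w} C] [Abelian C]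
  [∀ D : HomologicalComplex₂ C (up ℤ) (up ℤ), D.HasTotal (up ℤ)]
  (Φ : D ⥤ CochainComplex C ℤ) [Φ.Additive] (u : D ⥤ C) [u.Additive]
  (ε : Φ ⟶ u ⋙ HomologicalComplex.single C (up ℤ) 0)

/-- the double complex `Φ(K)` -/
noncomputable abbrev dc (K : CochainComplex D ℤ) : HomologicalComplex₂ C (up ℤ) (up ℤ) :=
  (Φ.mapHomologicalComplex (up ℤ)).obj K

/-- `Tot Φ(K)` -/
noncomputable abbrev tot (K : CochainComplex D ℤ) : CochainComplex C ℤ := (dc Φ K).total (up ℤ)

/-- the map of double complexes -/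
noncomputable def augD (K : CochainComplex D ℤ) : dc Φ K ⟶ row ((u.mapHomologicalComplex (up ℤ)).obj K) :=
  (NatTrans.mapHomologicalComplex ε (up ℤ)).app K

omit [∀ D : HomologicalComplex₂ C (up ℤ) (up ℤ), D.HasTotal (up ℤ)] in
theorem augD_f (K : CochainComplex D ℤ) (i : ℤ) : (augD Φ u ε K).f i = ε.app (K.X i) := rfl

/-- `Tot Φ(K) ⟶ u K` -/
noncomputable def augTotal (K : CochainComplex D ℤ) : tot Φ K ⟶ (u.mapHomologicalComplex (up ℤ)).obj K :=
  total.map (augD Φ u ε K) (up ℤ) ≫ (rowIso ((u.mapHomologicalComplex (up ℤ)).obj K)).inv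

omit [∀ D : HomologicalComplex₂ C (up ℤ) (up ℤ), D.HasTotal (up ℤ)] in
theorem bdd_dc (K : CochainComplex D ℤ) (a : ℤ) (hK : K.IsStrictlyGE a)
    (hΦ : ∀ (M : D) (n : ℤ), n < 0 → IsZero ((Φ.obj M).X n)) : Bdd (dc Φ K) := by
  intro n
  refine ⟨a, n, fun i j hij h => ?_⟩
  rcases h with h | h
  · exact (HomologicalComplex.eval C (up ℤ) j).map_isZero (Φ.map_isZero (K.isZero_of_isStrictlyGE a i h))
  · exact hΦ _ _ (by lia)

theorem quasiIso_augTotal (K : CochainComplex D ℤ) (a : ℤ) (hK : K.IsStrictlyGE a)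
    (hΦ : ∀ (M : D) (n : ℤ), n < 0 → IsZero ((Φ.obj M).X n)) (hε : ∀ M : D, QuasiIso (ε.app M)) :
    QuasiIso (augTotal Φ u ε K) := by
  have h1 : QuasiIso (total.map (augD Φ u ε K) (up ℤ)) := by
    refine quasiIso_total_map (augD Φ u ε K) (bdd_dc Φ K a hK hΦ) (bdd_row _) fun i => ?_
    rw [augD_f]
    exact hε _
  unfold augTotal
  infer_instance

end Aug

end Groth.Agent.ResProp.EF.K654.Tot
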